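import Cfsg.Agent.S8R.A
import Cfsg.Agent.S3333
import Cfsg.Agent.Invol.Dihedral

set_option autoImplicit false
set_option linter.style.haveILetI false

namespace Cfsg.Agent.S8R

open Equiv Subgroup

namespace QA2

theorem core {C : Type*} [Group C] [Finite C] {t r s z : C} {D : Subgroup C}
    (ht : ∀ g, g * t = t * g) (t2 : orderOf t = 2) (hD : Nat.card D = 9) (h3 : ∀ x ∈ D, x ^ 3 = 1)
    (hab : ∀ x ∈ D, ∀ y ∈ D, x * y = y * x)
    (hC : ∀ g, (∀ x ∈ D, g * x = x * g) → g ∈ D ∨ g * t ∈ D)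
    (hN : ∀ g ∈ normalizer (D : Set C), g ∈ D ⊔ closure {t, r, s})
    (hr : r ∈ normalizer (D : Set C)) (hs : s ∈ normalizer (D : Set C)) (rr : r * r = 1)
    (ss : s * s = 1) (h4 : (r * s) ^ 4 = 1) (hz : z ∈ D) (hz' : (r * s) ^ 2 * z ≠ z * (r * s) ^ 2)
    (hcent : ∀ x ∈ D, x ≠ 1 → ∀ g, g * x = x * g → g ∈ normalizer (D : Set C))
    (h27 : ¬ 27 ∣ Nat.card C) :
    (∀ g, g ∈ normalizer (D : Set C)) ∨
      ∃ f : C →* Perm (Fin 6), Function.Surjective f ∧ ∀ g, f g = 1 ↔ g = 1 ∨ g = t := by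
  have tt : t * t = 1 := by rw [← sq, ← t2, pow_orderOf_eq_one]
  have t1 : t ≠ 1 := by intro h; rw [h, orderOf_one] at t2; omega
  have hZc : zpowers t ≤ center C := by
    rw [zpowers_le, mem_center_iff]; exact ht
  haveI hZn : (zpowers t).Normal :=
    ⟨fun n hn g => by rw [mem_center_iff.1 (hZc hn) g]; simpa using hn⟩
  have memZ : ∀ x ∈ zpowers t, x = 1 ∨ x = t := by
    classical
    intro x hx
    rw [mem_zpowers_iff_mem_range_orderOf, t2] at hx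
    simp only [Finset.mem_image, Finset.mem_range] at hx
    obtain ⟨k, hk, rfl⟩ := hx
    interval_cases k <;> simp
  set π := QuotientGroup.mk' (zpowers t) with hπ
  have hker : π.ker = zpowers t := QuotientGroup.ker_mk' _
  have πs : Function.Surjective π := QuotientGroup.mk'_surjective _
  have πt : π t = 1 := by rw [← MonoidHom.mem_ker, hker]; exact mem_zpowers t
  have πeq : ∀ a b, π a = π b → a = b ∨ a = t * b := by
    intro a b h
    have h1 : a * b⁻¹ ∈ zpowers t := by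
      rw [← hker, MonoidHom.mem_ker, map_mul, map_inv, h, mul_inv_cancel]
    rcases memZ _ h1 with h | h
    · exact Or.inl (mul_inv_eq_one.1 h)
    · exact Or.inr (mul_inv_eq_iff_eq_mul.1 h)
  have lift : ∀ a b, a ^ 3 = 1 → b ^ 3 = 1 → π a = π b → a = b := by
    intro a b ha hb h
    rcases πeq a b h with h | h
    · exact h
    · exfalso
      rw [h, Commute.mul_pow (show Commute t b from (ht b).symm), hb, mul_one, pow_succ, sq, tt,
        one_mul] at ha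
      exact t1 ha
  have cj3 : ∀ g, ∀ x ∈ D, (g * x * g⁻¹) ^ 3 = 1 := fun g x hx => by
    rw [conj_pow, h3 x hx]; group
  have liftc : ∀ g, ∀ x ∈ D, π g * π x = π x * π g → g * x = x * g := by
    intro g x hx h
    have := lift (g * x * g⁻¹) x (cj3 g x hx) (h3 x hx) (by
      rw [map_mul, map_mul, map_inv, h, mul_inv_cancel_right])
    rwa [mul_inv_eq_iff_eq_mul] at this
  set S := D.map π with hS
  have hS9 : Nat.card S = 9 := by
    have hi : Function.Injective (π.comp D.subtype) := fun a b h =>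
      Subtype.ext (lift _ _ (h3 _ a.2) (h3 _ b.2) h)
    rw [← hD, Nat.card_congr (MonoidHom.ofInjective hi).toEquiv, MonoidHom.range_comp, range_subtype]
  have nup : ∀ g ∈ normalizer (D : Set C), π g ∈ normalizer (S : Set _) := fun g hg =>
    le_normalizer_map π ⟨g, hg, rfl⟩
  have ndown : ∀ g, π g ∈ normalizer (S : Set _) → g ∈ normalizer (D : Set C) := by
    intro g hg
    apply mem_normalizer_fintype
    intro x hx
    obtain ⟨y, hy, h⟩ := (mem_normalizer_iff.1 hg (π x)).1 ⟨x, hx, rfl⟩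
    rw [← map_inv, ← map_mul, ← map_mul] at h
    rw [← lift _ _ (h3 y hy) (cj3 g x hx) h]; exact hy
  haveI : Fact (Nat.Prime 3) := ⟨by norm_num⟩
  haveI : Fact (Nat.Prime 2) := ⟨by norm_num⟩
  have hp : IsPGroup 3 S := IsPGroup.of_card (n := 2) hS9
  have hidx : ¬ 3 ∣ S.index := by
    intro h
    apply h27
    refine Dvd.dvd.trans ?_ (card_dvd_of_surjective π πs)
    rw [← S.card_mul_index, hS9]
    exact Nat.mul_dvd_mul_left 9 h
  have hCS : centralizer (S : Set _) = S := by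
    apply le_antisymm
    · intro x hx
      obtain ⟨g, rfl⟩ := πs x
      rcases hC g (fun y hy => liftc g y hy (mem_centralizer_iff.1 hx _ ⟨y, hy, rfl⟩).symm) with h | h
      · exact ⟨g, h, rfl⟩
      · exact ⟨g * t, h, by rw [map_mul, πt, mul_one]⟩
    · rintro _ ⟨x, hx, rfl⟩
      rw [mem_centralizer_iff]
      rintro _ ⟨y, hy, rfl⟩
      rw [← map_mul, ← map_mul, hab y hy x hx]
  let ρ : normalizer (D : Set C) →* _ := (QuotientGroup.mk' (S.subgroupOf (normalizer (S : Set _)))).comp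
    ((π.comp (normalizer (D : Set C)).subtype).codRestrict (normalizer (S : Set _))
      (fun g => nup g.1 g.2))
  have ρ1 : ∀ g, ρ g = 1 ↔ π g.1 ∈ S := fun g => by
    show QuotientGroup.mk' _ _ = 1 ↔ _
    rw [← MonoidHom.mem_ker, QuotientGroup.ker_mk', mem_subgroupOf]; rfl
  have ρs : Function.Surjective ρ := by
    intro x
    obtain ⟨⟨y, hy⟩, rfl⟩ := QuotientGroup.mk'_surjective _ x
    obtain ⟨g, rfl⟩ := πs y
    exact ⟨⟨g, ndown g hy⟩, rfl⟩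
  set a := ρ ⟨r, hr⟩ with ha
  set b := ρ ⟨s, hs⟩ with hb
  have aa : a * a = 1 := by rw [ha, ← map_mul, ← map_one ρ]; congr 1; exact Subtype.ext rr
  have bb : b * b = 1 := by rw [hb, ← map_mul, ← map_one ρ]; congr 1; exact Subtype.ext ss
  have n2 : (a * b) ^ 2 ≠ 1 := by
    rw [ha, hb, ← map_mul, ← map_pow, Ne, ρ1]
    rintro ⟨d, hd, h⟩
    apply hz'
    rcases πeq _ _ h.symm with h | h
    · change (r * s) ^ 2 = d at h
      rw [h, hab d hd z hz]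
    · change (r * s) ^ 2 = t * d at h
      rw [h, mul_assoc, hab d hd z hz, ← mul_assoc, ← ht z, mul_assoc]
  have o4 : orderOf (a * b) = 4 := by
    refine orderOf_eq_prime_pow (p := 2) (n := 1) (by simpa using n2) ?_
    rw [ha, hb, ← map_mul, ← map_pow, ← map_one ρ]; congr 1; exact Subtype.ext h4
  have ai : a⁻¹ = a := inv_eq_of_mul_eq_one_right aa
  have bi : b⁻¹ = b := inv_eq_of_mul_eq_one_right bb
  have hinv : a * (a * b) * a⁻¹ = (a * b)⁻¹ := by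
    rw [← mul_assoc, aa, one_mul, mul_inv_rev, bi]
  have hna : a ∉ zpowers (a * b) := by
    rintro ⟨k, hk⟩
    have hc : Commute a (a * b) := by
      have := Commute.zpow_self (a * b) k
      simp only at hk
      rwa [hk] at this
    rw [hc.eq, mul_inv_cancel_right] at hinv
    apply n2
    rw [sq]; exact mul_eq_one_iff_eq_inv.2 hinv
  have htop : closure {a, a * b} = ⊤ := by
    rw [eq_top_iff]
    intro x _
    obtain ⟨⟨g, hg⟩, rfl⟩ := ρs x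
    have hle : D ⊔ closure {t, r, s} ≤
        ((closure {a, a * b}).comap ρ).map (normalizer (D : Set C)).subtype := by
      have m1 : a ∈ closure {a, a * b} := Subgroup.subset_closure (by simp)
      have m2 : a * b ∈ closure {a, a * b} := Subgroup.subset_closure (by simp)
      rw [sup_le_iff, closure_le]
      refine ⟨fun d hd => ⟨⟨d, le_normalizer hd⟩, ?_, rfl⟩, ?_⟩
      · show ρ _ ∈ closure {a, a * b}
        rw [(ρ1 _).2 ⟨d, hd, rfl⟩]; exact one_mem _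
      · rintro y (rfl | rfl | rfl)
        · refine ⟨⟨y, ndown y (by rw [πt]; exact one_mem _)⟩, ?_, rfl⟩
          show ρ _ ∈ closure {a, a * b}
          rw [(ρ1 _).2 (by show π y ∈ S; rw [πt]; exact one_mem _)]; exact one_mem _
        · exact ⟨⟨y, hr⟩, m1, rfl⟩
        · refine ⟨⟨y, hs⟩, ?_, rfl⟩
          show b ∈ closure {a, a * b}
          have := mul_mem m1 m2
          rwa [← mul_assoc, aa, one_mul] at this
    obtain ⟨g', h1, h2⟩ := hle (hN g hg)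
    have : g' = ⟨g, hg⟩ := Subtype.ext h2
    rw [← this]; exact h1
  obtain ⟨e⟩ := Invol.closure_equiv_dihedral aa hinv hna
  rw [o4, htop] at e
  rcases S3333.result (hp.toSylow hidx) S rfl hS9 hCS (topEquiv.symm.trans e) (by
    rintro _ ⟨x, hx, rfl⟩ h1 y hy
    obtain ⟨g, rfl⟩ := πs y
    refine nup g (hcent x hx (fun h => h1 (by rw [h, map_one])) g (liftc g x hx ?_))
    exact mem_centralizer_singleton_iff.1 hy) with hn | ⟨⟨eS⟩⟩
  · left
    intro g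
    apply ndown
    rw [normalizer_eq_top_iff.2 hn]; trivial
  · right
    refine ⟨eS.toMonoidHom.comp π, eS.surjective.comp πs, fun g => ?_⟩
    show eS (π g) = 1 ↔ _
    rw [eS.map_eq_one_iff, ← MonoidHom.mem_ker, hker]
    refine ⟨memZ g, ?_⟩
    rintro (rfl | rfl)
    · exact one_mem _
    · exact mem_zpowers _

/-- `⟨z0, y0⟩`. -/
def D0 : Subgroup K0 where
  carrier := {k | ∃ i j : Fin 3, k = z0 ^ i.1 * y0 ^ j.1}
  one_mem' := ⟨0, 0, by simp⟩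
  mul_mem' := by
    rintro _ _ ⟨i, j, rfl⟩ ⟨k, l, rfl⟩
    simp only [Set.mem_ofPred_eq]
    revert i j k l; decide +kernel
  inv_mem' := by
    rintro _ ⟨i, j, rfl⟩
    simp only [Set.mem_ofPred_eq]
    revert i j; decide +kernel

theorem D0_inj : ∀ p q : Fin 3 × Fin 3, z0 ^ p.1.1 * y0 ^ p.2.1 = z0 ^ q.1.1 * y0 ^ q.2.1 → p = q := by
  decide +kernel

theorem D0_card : Nat.card D0 = 9 := by
  have : Function.Bijective (fun p : Fin 3 × Fin 3 =>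
      (⟨z0 ^ p.1.1 * y0 ^ p.2.1, p.1, p.2, rfl⟩ : D0)) :=
    ⟨fun p q h => D0_inj p q (congrArg Subtype.val h), fun ⟨_, i, j, h⟩ => ⟨(i, j), Subtype.ext h.symm⟩⟩
  rw [← Nat.card_congr (Equiv.ofBijective _ this)]; simp

theorem fc : ∀ (a : Perm (Fin 3)) (b : Perm (Fin 5)), (a, b) * z0 = z0 * (a, b) →
    (a, b) * y0 = y0 * (a, b) → (∃ i j : Fin 3, (a, b) = z0 ^ i.1 * y0 ^ j.1) ∨
      (∃ i j : Fin 3, (a, b) * t0 = z0 ^ i.1 * y0 ^ j.1) := by decide +kernel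

theorem fd : ∀ (a : Perm (Fin 3)) (b : Perm (Fin 5)), (a, b) * t0 = t0 * (a, b) →
    (∃ i j : Fin 3, (a, b) * z0 * (a, b)⁻¹ = z0 ^ i.1 * y0 ^ j.1) ∧
    (∃ i j : Fin 3, (a, b) * y0 * (a, b)⁻¹ = z0 ^ i.1 * y0 ^ j.1) ∧
    ∃ i j : Fin 3, ∃ l m n : Fin 2,
      (a, b) = z0 ^ i.1 * y0 ^ j.1 * (t0 ^ l.1 * r0 ^ m.1 * q0 ^ n.1) := by decide +kernel

set_option synthInstance.maxSize 2000 in
theorem ff : ∀ i j : Fin 3, (z0 ^ i.1 * y0 ^ j.1) ^ 3 = 1 ∧
    (∀ k l : Fin 3, z0 ^ i.1 * y0 ^ j.1 * (z0 ^ k.1 * y0 ^ l.1) =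
      z0 ^ k.1 * y0 ^ l.1 * (z0 ^ i.1 * y0 ^ j.1)) ∧
    z0 ^ i.1 * y0 ^ j.1 * t0 = t0 * (z0 ^ i.1 * y0 ^ j.1) ∧
    (z0 ^ i.1 * y0 ^ j.1 = z0 ^ i.1 ∨ z0 ^ i.1 * y0 ^ j.1 = y0 ^ j.1 ∨ ∃ m n : Fin 2,
      (r0 ^ m.1 * q0 ^ n.1) * (z0 ^ i.1 * y0 ^ j.1) * (r0 ^ m.1 * q0 ^ n.1)⁻¹ = z0 * y0) ∧
    (z0 ^ i.1 * y0 ^ j.1 = 1 ∨ ∃ m n : Fin 2, (r0 ^ m.1 * q0 ^ n.1) * t0 = t0 * (r0 ^ m.1 * q0 ^ n.1) ∧
      ((r0 ^ m.1 * q0 ^ n.1) * (z0 ^ i.1 * y0 ^ j.1) * (r0 ^ m.1 * q0 ^ n.1)⁻¹ = z0 ∨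
      (r0 ^ m.1 * q0 ^ n.1) * (z0 ^ i.1 * y0 ^ j.1) * (r0 ^ m.1 * q0 ^ n.1)⁻¹ = y0 ∨
      (r0 ^ m.1 * q0 ^ n.1) * (z0 ^ i.1 * y0 ^ j.1) * (r0 ^ m.1 * q0 ^ n.1)⁻¹ = z0 * y0)) := by
  intro i j
  refine ⟨?_, ?_, ?_, ?_, ?_⟩ <;> revert i j <;> decide +kernel

def c5 : K0 := (1, swap 0 1 * swap 1 2 * swap 2 3 * swap 3 4)

theorem facts : c5 ^ 5 = 1 ∧ c5 ≠ 1 ∧ c5 * z0 = z0 * c5 ∧ t0 ^ 2 = 1 ∧ t0 ≠ 1 ∧ r0 * t0 = t0 * r0 ∧
    r0 * r0 = 1 ∧ (r0 * q0) ^ 2 = 1 ∧ (r0 * (q0 * t0)) ^ 2 = 1 ∧ r0 * q0 * z0 ≠ z0 * (r0 * q0) ∧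
    r0 * (q0 * t0) * z0 ≠ z0 * (r0 * (q0 * t0)) ∧ q0 * t0 * t0 = q0 := by
  refine ⟨?_, ?_, ?_, ?_, ?_, ?_, ?_, ?_, ?_, ?_, ?_, ?_⟩ <;> decide +kernel

end QA2

open QA2 in
theorem dich_of {G : Type*} [Group G] [Finite G] {ψ : K0 →* G} {s : G}
    (inj : Function.Injective ψ)
    (nz : ∀ g : G, g * ψ z0 * g⁻¹ ∈ zpowers (ψ z0) → g ∈ ψ.range)
    (ss : s * s = 1) (sz : s * ψ z0 * s⁻¹ = ψ y0) (st : s * ψ t0 * s⁻¹ = ψ t0)
    (sr : s * ψ r0 * s⁻¹ = ψ q0 ∨ s * ψ r0 * s⁻¹ = ψ (q0 * t0))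
    (ny : ∀ g : G, g * ψ (z0 * y0) * g⁻¹ ∈ zpowers (ψ (z0 * y0)) →
      g * ψ z0 * g⁻¹ ∈ zpowers (ψ z0) ∨ g * ψ z0 * g⁻¹ ∈ zpowers (ψ y0))
    (hy : Nat.card (centralizer ({ψ (z0 * y0)} : Set G)) = 36) (s27 : ¬ 27 ∣ Nat.card G) :
    (∀ g : G, g * ψ t0 = ψ t0 * g →
      g * ψ z0 * g⁻¹ ∈ zpowers (ψ z0) ∨ g * ψ z0 * g⁻¹ ∈ zpowers (ψ y0)) ∨
    ∃ f : centralizer ({ψ t0} : Set G) →* Perm (Fin 6), Function.Surjective f ∧
      ∀ g, f g = 1 ↔ g.1 = 1 ∨ g.1 = ψ t0 := by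
  obtain ⟨f1, f2, f3, f4, f5, f6, f7, f8, f9, f10, f11, f12⟩ := facts
  haveI : Fact (Nat.Prime 5) := ⟨by norm_num⟩
  set D1 := D0.map ψ with hD1
  have zD : ψ z0 ∈ D1 := ⟨z0, ⟨1, 0, by simp⟩, rfl⟩
  have yD : ψ y0 ∈ D1 := ⟨y0, ⟨0, 1, by simp⟩, rfl⟩
  have si : s⁻¹ = s := inv_eq_of_mul_eq_one_right ss
  have sy : s * ψ y0 * s⁻¹ = ψ z0 := by
    rw [← sz, si]
    calc s * (s * ψ z0 * s) * s = (s * s) * ψ z0 * (s * s) := by group
      _ = _ := by rw [ss]; group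
  have stc : s * ψ t0 = ψ t0 * s := mul_inv_eq_iff_eq_mul.1 st
  have nm : ∀ g, g * ψ z0 * g⁻¹ ∈ D1 → g * ψ y0 * g⁻¹ ∈ D1 → g ∈ normalizer (D1 : Set G) := by
    intro g h1 h2
    apply mem_normalizer_fintype
    rintro _ ⟨_, ⟨i, j, rfl⟩, rfl⟩
    have : g * ψ (z0 ^ i.1 * y0 ^ j.1) * g⁻¹ = (g * ψ z0 * g⁻¹) ^ i.1 * (g * ψ y0 * g⁻¹) ^ j.1 := by
      rw [map_mul, map_pow, map_pow, conj_pow, conj_pow]; group
    rw [this]
    exact mul_mem (pow_mem h1 _) (pow_mem h2 _)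
  have nk : ∀ k : K0, k * t0 = t0 * k → ψ k ∈ normalizer (D1 : Set G) := by
    rintro ⟨a, b⟩ h
    obtain ⟨h1, h2, -⟩ := fd a b h
    exact nm _ ⟨_, h1, by simp only [map_mul, map_inv]⟩ ⟨_, h2, by simp only [map_mul, map_inv]⟩
  have ns : s ∈ normalizer (D1 : Set G) := nm s (sz ▸ yD) (sy ▸ zD)
  have ct : ∀ k : K0, ψ k * ψ t0 = ψ t0 * ψ k → k * t0 = t0 * k := fun k h =>
    inj (by rw [map_mul, map_mul, h])
  have cls : ∀ g, g * ψ z0 * g⁻¹ ∈ D1 →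
      g * ψ z0 * g⁻¹ ∈ zpowers (ψ z0) ∨ g * ψ z0 * g⁻¹ ∈ zpowers (ψ y0) := by
    rintro g ⟨_, ⟨i, j, rfl⟩, h⟩
    rcases (ff i j).2.2.2.1 with h1 | h1 | ⟨m, n, h1⟩
    · left; rw [← h, h1, map_pow]; exact pow_mem (mem_zpowers _) _
    · right; rw [← h, h1, map_pow]; exact pow_mem (mem_zpowers _) _
    · exfalso
      generalize r0 ^ m.1 * q0 ^ n.1 = k at h1
      have h2 : ψ (z0 * y0) = (ψ k * g) * ψ z0 * (ψ k * g)⁻¹ := by
        rw [← h1, map_mul, map_mul, map_inv, h]; group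
      have h3 : ψ k * g * ψ c5 * (ψ k * g)⁻¹ ∈ centralizer ({ψ (z0 * y0)} : Set G) := by
        have h4 : ψ c5 * ψ z0 = ψ z0 * ψ c5 := by rw [← map_mul, f3, map_mul]
        rw [mem_centralizer_singleton_iff, h2]
        calc _ = ψ k * g * (ψ c5 * ψ z0) * (ψ k * g)⁻¹ := by group
          _ = _ := by rw [h4]; group
      have h5 := orderOf_dvd_natCard (⟨_, h3⟩ : centralizer ({ψ (z0 * y0)} : Set G))
      rw [hy, ← orderOf_injective _ (subtype_injective _)] at h5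
      change orderOf (MulAut.conj (ψ k * g) (ψ c5)) ∣ 36 at h5
      rw [MulEquiv.orderOf_eq, orderOf_injective ψ inj, orderOf_eq_prime f1 f2] at h5
      omega
  have B1 : ∀ g, g * ψ t0 = ψ t0 * g → g * ψ z0 = ψ z0 * g → g ∈ normalizer (D1 : Set G) := by
    intro g h1 h2
    obtain ⟨k, rfl⟩ := nz g (by rw [h2, mul_inv_cancel_right]; exact mem_zpowers _)
    exact nk k (ct k h1)
  have tr : ∀ n x, n ∈ normalizer (D1 : Set G) → n * ψ t0 = ψ t0 * n →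
      (∀ g, g * ψ t0 = ψ t0 * g → g * (n * x * n⁻¹) = (n * x * n⁻¹) * g →
        g ∈ normalizer (D1 : Set G)) →
      ∀ g, g * ψ t0 = ψ t0 * g → g * x = x * g → g ∈ normalizer (D1 : Set G) := by
    intro n x hn h1 h g h2 h3
    have c1 : Commute n (ψ t0) := h1
    have c2 : Commute g (ψ t0) := h2
    have h4 := h (n * g * n⁻¹) ((c1.mul_left c2).mul_left c1.inv_left).eq (by
      calc _ = n * (g * x) * n⁻¹ := by group
        _ = _ := by rw [h3]; group)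
    have h5 := mul_mem (mul_mem (inv_mem hn) h4) hn
    simpa [mul_assoc] using h5
  have B2 : ∀ g, g * ψ t0 = ψ t0 * g → g * ψ y0 = ψ y0 * g → g ∈ normalizer (D1 : Set G) :=
    tr s _ ns stc (by rw [sy]; exact B1)
  have B3 : ∀ g, g * ψ t0 = ψ t0 * g → g * ψ (z0 * y0) = ψ (z0 * y0) * g →
      g ∈ normalizer (D1 : Set G) := by
    intro g _ h2
    have h3 : g * ψ z0 * g⁻¹ ∈ D1 := by
      rcases ny g (by rw [h2, mul_inv_cancel_right]; exact mem_zpowers _) with h | h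
      · exact zpowers_le.2 zD h
      · exact zpowers_le.2 yD h
    refine nm g h3 ?_
    have h4 : g * ψ y0 * g⁻¹ = (g * ψ z0 * g⁻¹)⁻¹ * (ψ z0 * ψ y0) := by
      rw [map_mul] at h2
      calc _ = (g * ψ z0 * g⁻¹)⁻¹ * (g * (ψ z0 * ψ y0)) * g⁻¹ := by group
        _ = _ := by rw [h2]; group
    rw [h4]
    exact mul_mem (inv_mem h3) (mul_mem zD yD)
  set C := centralizer ({ψ t0} : Set G) with hC
  have mC : ∀ g, g ∈ C ↔ g * ψ t0 = ψ t0 * g := fun g => mem_centralizer_singleton_iff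
  have mk : ∀ k : K0, k * t0 = t0 * k → ψ k ∈ C := fun k h => (mC _).2 (by
    rw [← map_mul, h, map_mul])
  have hle : D1 ≤ C := by
    rintro _ ⟨_, ⟨i, j, rfl⟩, rfl⟩
    exact mk _ (ff i j).2.2.1
  have up : ∀ g : C, g ∈ normalizer (D1.subgroupOf C : Set C) → g.1 * ψ z0 * g.1⁻¹ ∈ D1 :=
    fun g hg => (mem_normalizer_iff.1 hg ⟨ψ z0, hle zD⟩).1 zD
  have down : ∀ g : C, g.1 ∈ normalizer (D1 : Set G) → g ∈ normalizer (D1.subgroupOf C : Set C) :=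
    fun g hg => mem_normalizer_iff.2 fun x => mem_normalizer_iff.1 hg x.1
  have rs2 : (ψ r0 * s) ^ 2 = ψ (r0 * q0) ∨ (ψ r0 * s) ^ 2 = ψ (r0 * (q0 * t0)) := by
    have : (ψ r0 * s) ^ 2 = ψ r0 * (s * ψ r0 * s⁻¹) := by rw [si, sq]; group
    rw [this, map_mul, map_mul ψ r0]
    rcases sr with h | h <;> rw [h] <;> simp
  rcases core (C := C) (t := ⟨ψ t0, mk _ rfl⟩) (r := ⟨ψ r0, mk _ f6⟩) (s := ⟨s, (mC _).2 stc⟩)
    (z := ⟨ψ z0, hle zD⟩) (D := D1.subgroupOf C)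
    (fun g => Subtype.ext ((mC _).1 g.2))
    (by rw [← orderOf_injective _ (subtype_injective _)]
        exact (orderOf_injective ψ inj t0).trans (orderOf_eq_prime f4 f5))
    (by rw [Nat.card_congr (subgroupOfEquivOfLe hle).toEquiv, hD1, card_map_of_injective inj, D0_card])
    (by rintro ⟨_, hx⟩ ⟨_, ⟨i, j, rfl⟩, rfl⟩
        apply Subtype.ext
        show ψ _ ^ 3 = 1
        rw [← map_pow, (ff i j).1, map_one])
    (by rintro ⟨_, hx⟩ ⟨_, ⟨i, j, rfl⟩, rfl⟩ ⟨_, hx'⟩ ⟨_, ⟨k, l, rfl⟩, rfl⟩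
        apply Subtype.ext
        show ψ _ * ψ _ = ψ _ * ψ _
        rw [← map_mul, (ff i j).2.1 k l, map_mul])
    (by rintro ⟨g, hg⟩ h
        have h1 : g * ψ z0 = ψ z0 * g := congrArg Subtype.val (h ⟨_, hle zD⟩ zD)
        have h2 : g * ψ y0 = ψ y0 * g := congrArg Subtype.val (h ⟨_, hle yD⟩ yD)
        obtain ⟨⟨a, b⟩, rfl⟩ := nz g (by rw [h1, mul_inv_cancel_right]; exact mem_zpowers _)
        rcases fc a b (inj (by rw [map_mul, map_mul, h1])) (inj (by rw [map_mul, map_mul, h2]))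
          with h3 | h3
        · exact Or.inl ⟨_, h3, rfl⟩
        · exact Or.inr ⟨_, h3, map_mul _ _ _⟩)
    (by
      intro g hg
      set M := D1.subgroupOf C ⊔ closure {(⟨ψ t0, mk _ rfl⟩ : C), ⟨ψ r0, mk _ f6⟩, ⟨s, (mC _).2 stc⟩}
        with hM
      have lM : ∀ x ∈ M, x.1 ∈ M.map C.subtype := fun x hx => ⟨x, hx, rfl⟩
      have m1 : ψ t0 ∈ M.map C.subtype :=
        lM ⟨_, mk _ rfl⟩ (mem_sup_right (Subgroup.subset_closure (by simp)))
      have m2 : ψ r0 ∈ M.map C.subtype :=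
        lM ⟨_, mk _ f6⟩ (mem_sup_right (Subgroup.subset_closure (by simp)))
      have m3 : s ∈ M.map C.subtype :=
        lM ⟨_, (mC _).2 stc⟩ (mem_sup_right (Subgroup.subset_closure (by simp)))
      have m4 : ψ q0 ∈ M.map C.subtype := by
        have h := mul_mem (mul_mem m3 m2) (inv_mem m3)
        rcases sr with h1 | h1 <;> rw [h1] at h
        · exact h
        · rw [← f12, map_mul]; exact mul_mem h m1
      have m5 : ∀ x ∈ D1, x ∈ M.map C.subtype := fun x hx => lM ⟨x, hle hx⟩ (mem_sup_left hx)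
      have m6 : ∀ x, x * ψ t0 = ψ t0 * x → x * ψ z0 * x⁻¹ ∈ zpowers (ψ z0) →
          x ∈ M.map C.subtype := by
        intro x h1 h2
        obtain ⟨⟨a, b⟩, rfl⟩ := nz x h2
        obtain ⟨-, -, i, j, l, m, n, h3⟩ := fd a b (ct _ h1)
        rw [h3, map_mul]
        refine mul_mem (m5 _ ⟨_, ⟨i, j, rfl⟩, rfl⟩) ?_
        simp only [map_mul, map_pow]
        exact mul_mem (mul_mem (pow_mem m1 _) (pow_mem m2 _)) (pow_mem m4 _)
      have m7 : g.1 ∈ M.map C.subtype := by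
        have hgt := (mC _).1 g.2
        rcases cls g.1 (up g hg) with h | h
        · exact m6 _ hgt h
        · have h2 := m6 (s * g.1) (by rw [mul_assoc, hgt, ← mul_assoc, stc, mul_assoc]) (by
            obtain ⟨k, hk⟩ := mem_zpowers_iff.1 h
            refine mem_zpowers_iff.2 ⟨k, ?_⟩
            rw [← sy, conj_zpow, hk, sy]; group)
          have := mul_mem (inv_mem m3) h2
          rwa [inv_mul_cancel_left] at this
      obtain ⟨x, hx, hx'⟩ := m7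
      rwa [show x = g from Subtype.ext hx'] at hx)
    (down _ (nk _ f6)) (down _ ns)
    (Subtype.ext (by show ψ r0 * ψ r0 = 1; rw [← map_mul, f7, map_one])) (Subtype.ext ss)
    (Subtype.ext (by
      show (ψ r0 * s) ^ 4 = 1
      rw [show 4 = 2 * 2 from rfl, pow_mul]
      rcases rs2 with h | h <;> rw [h, ← map_pow]
      · rw [f8, map_one]
      · rw [f9, map_one]))
    zD
    (by
      intro h
      have h1 : (ψ r0 * s) ^ 2 * ψ z0 = ψ z0 * (ψ r0 * s) ^ 2 := congrArg Subtype.val h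
      rcases rs2 with h | h <;> rw [h, ← map_mul, ← map_mul] at h1
      · exact f10 (inj h1)
      · exact f11 (inj h1))
    (by
      rintro ⟨_, hx⟩ ⟨_, ⟨i, j, rfl⟩, rfl⟩ h1 g hg
      apply down
      have hg' : g.1 * ψ (z0 ^ i.1 * y0 ^ j.1) = ψ (z0 ^ i.1 * y0 ^ j.1) * g.1 :=
        congrArg Subtype.val hg
      rcases (ff i j).2.2.2.2 with h2 | ⟨m, n, h2, h3⟩
      · exact absurd (Subtype.ext (by show ψ _ = 1; rw [h2, map_one])) h1
      · generalize r0 ^ m.1 * q0 ^ n.1 = k at h2 h3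
        refine tr (ψ k) _ (nk k h2) ((mC _).1 (mk k h2)) ?_ g.1 ((mC _).1 g.2) hg'
        rw [← map_inv, ← map_mul, ← map_mul]
        rcases h3 with h | h | h <;> rw [h]
        · exact B1
        · exact B2
        · exact B3)
    (fun h => s27 (h.trans (card_subgroup_dvd_card C))) with h | ⟨f, hf, hk⟩
  · exact Or.inl fun g hg => cls g (up ⟨g, (mC g).2 hg⟩ (h _))
  · exact Or.inr ⟨f, hf, fun g => by rw [hk, Subtype.ext_iff, Subtype.ext_iff]; rfl⟩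

end Cfsg.Agent.S8R
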