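import Cfsg.Agent.A8R.PN
import Cfsg.Agent.BG.Base2

/-! Frames for the 3-local recognition of `Sym(8)` / `(A₅ × A₅).2²`. -/

set_option autoImplicit false

namespace Cfsg.Agent.S8R

open Equiv Subgroup Cfsg.Agent.BG

/-- `S₃ × S₅` -/
abbrev K0 := Perm (Fin 3) × Perm (Fin 5)

def z0 : K0 := (swap 0 2 * swap 0 1, 1)
def r0 : K0 := (swap 0 1, 1)
def y0 : K0 := (1, swap 0 2 * swap 0 1)
def q0 : K0 := (1, swap 0 1)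
def t0 : K0 := (1, swap 3 4)
def v0 : K0 := (1, swap 0 3 * swap 1 4)
/-- `1 × A₅` -/
def L0 : Subgroup K0 := (⊥ : Subgroup (Perm (Fin 3))).prod (alternatingGroup (Fin 5))

variable {G : Type*} [Group G]

/-- First frame: `z = ψ z0`, `z' = ψ y0`, `D = ⟨z, z'⟩`, `y = z z'`, `C(D) = D ⟨t⟩`. -/
structure F1 (ψ : K0 →* G) (s : G) : Prop where
  inj : Function.Injective ψ
  nz : ∀ g : G, g * ψ z0 * g⁻¹ ∈ zpowers (ψ z0) → g ∈ ψ.range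
  ss : s * s = 1
  sz : s * ψ z0 * s⁻¹ = ψ y0
  st : s * ψ t0 * s⁻¹ = ψ t0
  sr : s * ψ r0 * s⁻¹ = ψ q0 ∨ s * ψ r0 * s⁻¹ = ψ (q0 * t0)
  ny : ∀ g : G, g * ψ (z0 * y0) * g⁻¹ ∈ zpowers (ψ (z0 * y0)) →
    g * ψ z0 * g⁻¹ ∈ zpowers (ψ z0) ∨ g * ψ z0 * g⁻¹ ∈ zpowers (ψ y0)
  hy : Nat.card (centralizer ({ψ (z0 * y0)} : Set G)) = 36
  s27 : ¬ 27 ∣ Nat.card G
  h9 : ∀ i : G, orderOf i = 2 → 9 ∣ Nat.card (centralizer ({i} : Set G)) → IsConj (ψ t0) i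
  dich : (∀ g : G, g * ψ t0 = ψ t0 * g → g * ψ z0 * g⁻¹ ∈ zpowers (ψ z0) ∨ g * ψ z0 * g⁻¹ ∈ zpowers (ψ y0)) ∨
    ∃ f : centralizer ({ψ t0} : Set G) →* Perm (Fin 6), Function.Surjective f ∧ ∀ g, f g = 1 ↔ g.1 = 1 ∨ g.1 = ψ t0

/-- with the non-fusion facts -/
structure F1' (ψ : K0 →* G) (s : G) : Prop extends F1 ψ s where
  nt1 : ¬ IsConj (ψ t0) (ψ (q0 * t0))
  nt2 : ∀ w : G, IsConj (ψ t0) w → w * ψ (z0 * y0) = ψ (z0 * y0) * w → w = ψ t0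

/-- The `Sym(8)` frame. -/
structure FS (ψ : K0 →* G) (s : G) (φ : Perm (Fin 8) →* G) : Prop extends F1' ψ s where
  injφ : Function.Injective φ
  ez : φ (swap 0 2 * swap 0 1) = ψ z0
  ey : φ (swap 3 5 * swap 3 4) = ψ y0
  et : φ (swap 6 7) = ψ t0
  eq : φ (swap 3 4) = ψ q0
  le : ψ.range ≤ φ.range
  sm : s ∈ φ.range
  ct : ∀ g : G, g * ψ t0 = ψ t0 * g → g ∈ φ.range

/-- The exceptional case, first frame. -/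
structure F3 (ψ : K0 →* G) (s : G) : Prop extends F1' ψ s where
  sr' : s * ψ r0 * s⁻¹ = ψ (q0 * t0)
  ct : ∀ g : G, g * ψ t0 = ψ t0 * g → g ∈ ψ.range ∨ g * s ∈ ψ.range

/-- `V = ⟨r', v'⟩ ≤ L` -/
abbrev VV (ψ : K0 →* G) : Subgroup G := closure {ψ (q0 * t0), ψ v0}
/-- `V' = V^s = ⟨r, v⟩ ≤ L'` -/
abbrev VV' (ψ : K0 →* G) (s : G) : Subgroup G := closure {ψ r0, s * ψ v0 * s⁻¹}
/-- `N = L L'` -/
abbrev NN (ψ : K0 →* G) (s : G) : Subgroup G := L0.map ψ ⊔ cj s (L0.map ψ)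

/-- `[L, L'] = 1` -/
structure F4 (ψ : K0 →* G) (s : G) : Prop extends F3 ψ s where
  cm : ∀ a ∈ L0, ∀ b ∈ L0, ψ a * (s * ψ b * s⁻¹) = s * ψ b * s⁻¹ * ψ a

/-- the normal subgroup `H` of index 4 -/
structure F5 (ψ : K0 →* G) (s : G) (H : Subgroup G) : Prop extends F4 ψ s where
  nH : H.Normal
  idx : H.index = 4
  sq : ∀ g : G, g ^ 2 ∈ H
  NH : NN ψ s ≤ H
  syl : SylowIn 2 (VV ψ ⊔ VV' ψ s) H
  nrj : ¬ IsConj (ψ r0) (ψ (r0 * (q0 * t0)))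
  fus : ∀ g ∈ H, ∀ a ∈ VV ψ ⊔ VV' ψ s, g * a * g⁻¹ ∈ VV ψ ⊔ VV' ψ s →
    (a ∈ VV ψ → g * a * g⁻¹ ∈ VV ψ) ∧ (a ∈ VV' ψ s → g * a * g⁻¹ ∈ VV' ψ s)

end Cfsg.Agent.S8R
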