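import Cfsg.Agent.S8R.A
import Cfsg.Agent.Pres.Cox

/-! The embedding of `Sym(8)` from the Coxeter relations. -/

set_option autoImplicit false

namespace Cfsg.Agent.S8R

open Equiv Subgroup Cfsg.Agent.BG

variable {G : Type*} [Group G]

theorem qb_cox (s : ℕ → G) (n : ℕ) (h2 : ∀ i < n, s i * s i = 1)
    (hc : ∀ j < n, ∀ i < j, i + 1 < j → s i * s j = s j * s i)
    (hb : ∀ i < n, i + 1 < n → s (i + 1) * s i * s (i + 1) = s i * s (i + 1) * s i) :
    ∃ θ : Perm (Fin (n + 1)) →* G,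
      ∀ i < n, θ (swap (Fin.ofNat (n + 1) i) (Fin.ofNat (n + 1) (i + 1))) = s i := by
  let pt : ℕ → Fin (n + 1) := Fin.ofNat (n + 1)
  have hv : ∀ i ≤ n, (pt i).1 = i := fun i hi => Nat.mod_eq_of_lt (by omega)
  have hpt : ∀ i j, i ≤ n → j ≤ n → pt i = pt j → i = j := fun i j hi hj e => by
    rw [← hv i hi, e, hv j hj]
  have hne : ∀ i j, i ≤ n → j ≤ n → i ≠ j → pt i ≠ pt j := fun i j hi hj h e => h (hpt i j hi hj e)
  let t : ℕ → G × Perm (Fin (n + 1)) := fun i =>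
    if i < n then (s i, swap (pt i) (pt (i + 1))) else 1
  have ht : ∀ i < n, t i = (s i, swap (pt i) (pt (i + 1))) := fun i hi => if_pos hi
  have ht' : ∀ i, ¬ i < n → t i = 1 := fun i hi => if_neg hi
  have hinj := Pres.cox_inj (s := t) (MonoidHom.snd _ _) pt n hpt (fun i => by
      by_cases hi : i < n
      · rw [ht i hi]; exact Prod.ext (h2 i hi) (swap_mul_self _ _)
      · rw [ht' i hi, mul_one])
    (fun i j hij => by
      by_cases hj : j < n
      · rw [ht i (by omega), ht j hj]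
        refine Prod.ext (hc j hj i (by omega) hij) ?_
        show swap _ _ * swap _ _ = swap _ _ * swap _ _
        rw [mul_swap_eq_swap_mul, swap_apply_of_ne_of_ne (hne _ _ (by omega) (by omega) (by omega))
          (hne _ _ (by omega) (by omega) (by omega)), swap_apply_of_ne_of_ne
          (hne _ _ (by omega) (by omega) (by omega)) (hne _ _ (by omega) (by omega) (by omega))]
      · rw [ht' j hj]; exact Commute.one_right _)
    (fun i hi => by
      rw [ht i (by omega), ht (i + 1) hi]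
      refine Prod.ext (hb i (by omega) hi) ?_
      show swap _ _ * swap _ _ * swap _ _ = swap _ _ * swap _ _ * swap _ _
      have a1 := hne i (i + 1) (by omega) (by omega) (by omega)
      have a2 := hne i (i + 1 + 1) (by omega) (by omega) (by omega)
      have a3 := hne (i + 1) (i + 1 + 1) (by omega) (by omega) (by omega)
      rw [swap_mul_swap_mul_swap a1 a2, swap_comm (pt i) (pt (i + 1)),
        swap_comm (pt (i + 1)) (pt (i + 1 + 1)), swap_mul_swap_mul_swap a3.symm a2.symm, swap_comm])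
    (fun i hi => by rw [ht i hi]; rfl) n le_rfl
  set H := closure (t '' {i | i < n})
  let π : H →* Perm (Fin (n + 1)) := (MonoidHom.snd _ _).comp H.subtype
  have hπ : ∀ i (hi : i < n), π ⟨t i, subset_closure ⟨i, hi, rfl⟩⟩ = swap (pt i) (pt (i + 1)) :=
    fun i hi => by show (t i).2 = _; rw [ht i hi]
  have hb : Function.Bijective π := by
    refine ⟨(injective_iff_map_eq_one π).2 fun a ha => Subtype.ext (hinj a a.2 ha), fun σ => ?_⟩
    have h := Perm.mclosure_swap_castSucc_succ n ▸ Submonoid.mem_top σ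
    refine (Submonoid.closure_le (S := π.range.toSubmonoid)).2 ?_ h
    rintro _ ⟨i, rfl⟩
    refine ⟨_, (hπ i i.2).trans ?_⟩
    congr 1 <;> ext
    · exact hv i i.2.le
    · exact hv (i + 1) i.2
  let e := MulEquiv.ofBijective π hb
  refine ⟨((MonoidHom.fst _ _).comp H.subtype).comp e.symm.toMonoidHom, fun i hi => ?_⟩
  rw [← hπ i hi]
  show (e.symm (e _)).1.1 = _
  rw [e.symm_apply_apply]
  show (t i).1 = _
  rw [ht i hi]

theorem qb_rng {n : ℕ} {φ : Perm (Fin (n + 1)) →* G} {H : Subgroup G}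
    (h : ∀ i : Fin n, φ (swap i.castSucc i.succ) ∈ H) (σ : Perm (Fin (n + 1))) : φ σ ∈ H := by
  have : σ ∈ Submonoid.closure _ := Perm.mclosure_swap_castSucc_succ n ▸ Submonoid.mem_top σ
  refine Submonoid.closure_induction (fun x hx => ?_) (by simp) (fun x y _ _ a b => ?_) this
  · obtain ⟨i, rfl⟩ := hx; exact h i
  · rw [map_mul]; exact mul_mem a b

variable {ψ : K0 →* G} {s : G}

theorem F1'.qb_back (h : F1' ψ s) {a b : G} (e : s * a * s⁻¹ = b) : s * b * s⁻¹ = a := by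
  calc s * b * s⁻¹ = (s * s) * a * (s * s)⁻¹ := by rw [← e]; group
    _ = a := by rw [h.ss]; group

theorem F1'.dichR (h : F1' ψ s) (e : s * ψ r0 * s⁻¹ = ψ q0) :
    ∃ f : centralizer ({ψ t0} : Set G) →* Perm (Fin 6), Function.Surjective f ∧
      ∀ g, f g = 1 ↔ g.1 = 1 ∨ g.1 = ψ t0 := by
  refine h.dich.resolve_left fun hd => ?_
  let c : K0 := (1, swap 0 1 * swap 1 2 * swap 2 3 * swap 3 4)
  obtain ⟨g, hg⟩ : ∃ g, g = (ψ v0 * s) * ψ c * (ψ v0 * s)⁻¹ := ⟨_, rfl⟩
  have ht : ψ t0 = (ψ v0 * s) * ψ r0 * (ψ v0 * s)⁻¹ := by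
    calc ψ t0 = ψ v0 * ψ q0 * (ψ v0)⁻¹ := by
          rw [← map_inv, ← map_mul, ← map_mul]; congr 1; decide +kernel
      _ = _ := by rw [← e]; group
  have g5 : g ^ 5 = 1 := by
    rw [hg, conj_pow, ← map_pow, show c ^ 5 = 1 by decide +kernel, map_one, mul_one, mul_inv_cancel]
  have gt : g * ψ t0 = ψ t0 * g := by
    have : ψ c * ψ r0 = ψ r0 * ψ c := by
      rw [← map_mul, ← map_mul, show c * r0 = r0 * c by decide +kernel]
    rw [hg, ht]
    calc _ = (ψ v0 * s) * (ψ c * ψ r0) * (ψ v0 * s)⁻¹ := by group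
      _ = _ := by rw [this]; group
  have g1 : g ≠ 1 := fun h1 => by
    rw [hg, mul_inv_eq_one, mul_eq_left, ← map_one ψ] at h1
    exact absurd (h.inj h1) (by decide +kernel)
  have A : ∀ x ∈ ψ.range, x * ψ t0 = ψ t0 * x → x ^ 5 = 1 → x = 1 := by
    rintro _ ⟨⟨a, b⟩, rfl⟩ h1 h2
    rw [← map_mul, ← map_mul] at h1
    rw [← map_pow, ← map_one ψ] at h2
    have k1 : ∀ a : Perm (Fin 3), a ^ 5 = 1 → a = 1 := by decide +kernel
    have k2 : ∀ b : Perm (Fin 5), b * swap 3 4 = swap 3 4 * b → b ^ 5 = 1 → b = 1 := by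
      decide +kernel
    rw [k1 a (congrArg Prod.fst (h.inj h2)),
      k2 b (congrArg Prod.snd (h.inj h1)) (congrArg Prod.snd (h.inj h2))]
    exact map_one ψ
  have B : ∀ x : G, x * ψ z0 * x⁻¹ ∈ zpowers (ψ y0) → s * x ∈ ψ.range := fun x ⟨k, hk⟩ =>
    h.nz _ ⟨k, by
      change ψ z0 ^ k = _
      rw [← h.qb_back h.sz, conj_zpow, show ψ y0 ^ k = _ from hk, h.qb_back h.sz]
      group⟩
  have gt2 : g * g * ψ t0 = ψ t0 * (g * g) := by rw [mul_assoc, gt, ← mul_assoc, gt, mul_assoc]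
  rcases hd g gt with h1 | h1
  · exact g1 (A g (h.nz g h1) gt g5)
  rcases hd (g * g) gt2 with h2 | h2
  · have h3 := A _ (h.nz _ h2) gt2 (by rw [← pow_two, ← pow_mul, mul_comm, pow_mul, g5, one_pow])
    apply g1
    calc g = g ^ 5 * ((g * g) * (g * g))⁻¹ := by group
      _ = 1 := by rw [g5, h3]; group
  · have h3 := mul_mem (inv_mem (B _ h1)) (B _ h2)
    rw [show (s * g)⁻¹ * (s * (g * g)) = g by group] at h3
    exact g1 (A g h3 gt g5)

set_option synthInstance.maxSize 2000 in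
set_option synthInstance.maxHeartbeats 200000 in
theorem F1'.qb_phi (h : F1' ψ s) (e : s * ψ r0 * s⁻¹ = ψ q0) {a3 : G}
    (ha : a3 = s * ψ (1, swap 2 3) * s⁻¹ ∨ a3 = ψ t0 * (s * ψ (1, swap 2 3) * s⁻¹) * ψ t0)
    (h35 : (a3 * ψ (1, swap 2 3)) ^ 2 = 1) : ∃ φ : Perm (Fin 8) →* G,
      φ (swap 0 1) = ψ r0 ∧ φ (swap 1 2) = ψ (swap 1 2, 1) ∧ φ (swap 6 7) = ψ t0 ∧
      φ (swap 5 6) = ψ (1, swap 2 3) ∧ φ (swap 4 5) = ψ (1, swap 1 2) ∧ φ (swap 3 4) = ψ q0 := by
  have cj : ∀ a b : K0, s * ψ (a * b) * s⁻¹ = (s * ψ a * s⁻¹) * (s * ψ b * s⁻¹) := fun a b => by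
    rw [map_mul]; group
  obtain ⟨w, hw, rfl⟩ : ∃ w : K0, (w = (1, swap 2 3) ∨ w = (1, swap 2 4)) ∧ a3 = s * ψ w * s⁻¹ := by
    rcases ha with rfl | rfl
    · exact ⟨_, Or.inl rfl, rfl⟩
    · refine ⟨_, Or.inr rfl, ?_⟩
      rw [show ((1, swap 2 4) : K0) = t0 * (1, swap 2 3) * t0 by decide +kernel, cj, cj, h.st]
  have e2 : s * ψ (swap 1 2, 1) * s⁻¹ = ψ (1, swap 1 2) := by
    rw [show ((swap 1 2, 1) : K0) = r0 * z0 by decide +kernel, cj, e, h.sz, ← map_mul]
    congr 1; decide +kernel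
  let k : ℕ → K0 := fun i => [r0, (swap 1 2, 1), 1, t0, (1, swap 2 3), (1, swap 1 2), q0].getD i 1
  let k' : ℕ → K0 := fun i => [q0, (1, swap 1 2), w, t0, 1, (swap 1 2, 1), r0].getD i 1
  let a : ℕ → G := fun i => if i = 2 then s * ψ w * s⁻¹ else ψ (k i)
  have a1 : ∀ i, i ≠ 2 → a i = ψ (k i) := fun i hi => if_neg hi
  have a2 : ∀ i < 7, i ≠ 4 → a i = s * ψ (k' i) * s⁻¹ := fun i hi h4 => by
    interval_cases i
    · exact (h.qb_back e).symm
    · exact (h.qb_back e2).symm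
    · rfl
    · exact h.st.symm
    · exact absurd rfl h4
    · exact e2.symm
    · exact e.symm
  have sq : ∀ i < 7, a i * a i = 1 := fun i hi => by
    by_cases h2 : i = 2
    · rw [a2 i hi (by omega), ← cj, show k' i * k' i = 1 by
        subst h2; rcases hw with rfl | rfl <;> decide +kernel, map_one]
      group
    · rw [a1 i h2, ← map_mul, ← map_one ψ]
      congr 1
      revert i
      decide +kernel
  have h24 : a 2 * a 4 = a 4 * a 2 := by
    have : a 2 * a 4 * (a 2 * a 4) = 1 := by rw [← pow_two]; exact h35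
    rw [eq_inv_of_mul_eq_one_left this, mul_inv_rev, inv_eq_of_mul_eq_one_left (sq 2 (by omega)),
      inv_eq_of_mul_eq_one_left (sq 4 (by omega))]
  obtain ⟨θ, hθ⟩ := qb_cox a 7 sq (fun j hj i hi hij => by
      by_cases c : i ≠ 2 ∧ j ≠ 2
      · rw [a1 i c.1, a1 j c.2, ← map_mul, ← map_mul]
        congr 1
        exact (by decide +kernel : ∀ j < 7, ∀ i < j, (i + 1 < j ∧ i ≠ 2 ∧ j ≠ 2) →
          k i * k j = k j * k i) j hj i hi ⟨hij, c⟩
      by_cases c4 : j = 4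
      · obtain rfl : i = 2 := by omega
        rw [c4]
        exact h24
      rw [a2 i (by omega) (by omega), a2 j hj c4, ← cj, ← cj]
      congr 3
      have : ∀ j < 7, ∀ i < j, (i + 1 < j ∧ (i = 2 ∨ j = 2) ∧ j ≠ 4) →
          k' i * k' j = k' j * k' i := by rcases hw with rfl | rfl <;> decide +kernel
      exact this j hj i hi ⟨hij, by omega, c4⟩)
    (fun i hi hi' => by
      by_cases c : i ≠ 2 ∧ i ≠ 1
      · rw [a1 i c.1, a1 (i + 1) (by omega), ← map_mul, ← map_mul, ← map_mul, ← map_mul]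
        congr 1
        exact (by decide +kernel : ∀ i < 6, (i ≠ 2 ∧ i ≠ 1) →
          k (i + 1) * k i * k (i + 1) = k i * k (i + 1) * k i) i (by omega) c
      rw [a2 i hi (by omega), a2 (i + 1) hi' (by omega), ← cj, ← cj, ← cj, ← cj]
      congr 3
      have : ∀ i < 6, (i = 2 ∨ i = 1) →
          k' (i + 1) * k' i * k' (i + 1) = k' i * k' (i + 1) * k' i := by
        rcases hw with rfl | rfl <;> decide +kernel
      exact this i (by omega) (by omega))
  let ρ : Perm (Fin 8) := swap 3 7 * swap 4 6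
  let φ : Perm (Fin 8) →* G := θ.comp (MulAut.conj ρ).toMonoidHom
  have hφ : ∀ (σ : Perm (Fin 8)) (i : ℕ), i < 7 →
      ρ * σ * ρ⁻¹ = swap (Fin.ofNat 8 i) (Fin.ofNat 8 (i + 1)) → φ σ = a i := fun σ i hi e => by
    rw [← hθ i hi, ← e]; rfl
  exact ⟨φ, hφ _ 0 (by omega) (by decide +kernel), hφ _ 1 (by omega) (by decide +kernel),
    hφ _ 3 (by omega) (by decide +kernel), hφ _ 4 (by omega) (by decide +kernel),
    hφ _ 5 (by omega) (by decide +kernel), hφ _ 6 (by omega) (by decide +kernel)⟩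

theorem F1'.toS8_of (h : F1' ψ s) (e : s * ψ r0 * s⁻¹ = ψ q0) {a3 : G}
    (ha : a3 = s * ψ (1, swap 2 3) * s⁻¹ ∨ a3 = ψ t0 * (s * ψ (1, swap 2 3) * s⁻¹) * ψ t0)
    (h35 : (a3 * ψ (1, swap 2 3)) ^ 2 = 1) : ∃ φ, FS ψ s φ := by
  obtain ⟨φ, p0, p1, p3, p4, p5, p6⟩ := h.qb_phi e ha h35
  have ez : φ (swap 0 2 * swap 0 1) = ψ z0 := by
    rw [show (swap 0 2 * swap 0 1 : Perm (Fin 8)) = swap 0 1 * swap 1 2 by decide +kernel, map_mul,
      p0, p1, ← map_mul]
    congr 1; decide +kernel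
  have ey : φ (swap 3 5 * swap 3 4) = ψ y0 := by
    rw [show (swap 3 5 * swap 3 4 : Perm (Fin 8)) = swap 3 4 * swap 4 5 by decide +kernel, map_mul,
      p6, p5, ← map_mul]
    congr 1; decide +kernel
  have inj : Function.Injective φ := by
    rw [← MonoidHom.ker_eq_bot_iff]
    by_contra c
    have := Perm.alternatingGroup_le_of_normal (N := φ.ker) (by simp) ((nontrivial_iff_ne_bot _).2 c)
    have q : swap 0 2 * swap 0 1 ∈ φ.ker := this (by rw [Perm.mem_alternatingGroup]; decide +kernel)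
    rw [MonoidHom.mem_ker, ez, ← map_one ψ] at q
    exact absurd (h.inj q) (by decide +kernel)
  have le : ψ.range ≤ φ.range := by
    rintro _ ⟨⟨x, y⟩, rfl⟩
    rw [show ((x, y) : K0) = (x, 1) * (1, y) by simp, map_mul]
    refine mul_mem (qb_rng (φ := ψ.comp (MonoidHom.inl _ _)) (fun i => ?_) x)
      (qb_rng (φ := ψ.comp (MonoidHom.inr _ _)) (fun i => ?_) y)
    · change ψ (swap i.castSucc i.succ, 1) ∈ _
      rcases (by decide +kernel : ∀ i : Fin 2, ((swap i.castSucc i.succ, 1) : K0) = r0 ∨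
        ((swap i.castSucc i.succ, 1) : K0) = (swap 1 2, 1)) i with c | c <;> rw [c]
      exacts [⟨_, p0⟩, ⟨_, p1⟩]
    · change ψ (1, swap i.castSucc i.succ) ∈ _
      rcases (by decide +kernel : ∀ i : Fin 4, ((1, swap i.castSucc i.succ) : K0) = q0 ∨
        ((1, swap i.castSucc i.succ) : K0) = (1, swap 1 2) ∨
        ((1, swap i.castSucc i.succ) : K0) = (1, swap 2 3) ∨
        ((1, swap i.castSucc i.succ) : K0) = t0) i with c | c | c | c <;> rw [c]
      exacts [⟨_, p6⟩, ⟨_, p5⟩, ⟨_, p4⟩, ⟨_, p3⟩]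
  refine ⟨φ, h, inj, ez, ey, p3, p6, le, ?_, fun g hg => ?_⟩
  · let m : Perm (Fin 8) := swap 0 3 * swap 1 4 * swap 2 5
    have h1 : φ m * ψ z0 * (φ m)⁻¹ = ψ y0 := by
      rw [← ez, ← ey, ← map_inv, ← map_mul, ← map_mul]
      congr 1; decide +kernel
    have h2 : s⁻¹ * φ m ∈ ψ.range := h.nz _ (by
      rw [show s⁻¹ * φ m * ψ z0 * (s⁻¹ * φ m)⁻¹ = s⁻¹ * (φ m * ψ z0 * (φ m)⁻¹) * s by group, h1,
        ← h.sz, show s⁻¹ * (s * ψ z0 * s⁻¹) * s = ψ z0 by group]
      exact mem_zpowers _)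
    have h3 := mul_mem (show φ m ∈ φ.range from ⟨m, rfl⟩) (inv_mem (le h2))
    rwa [show φ m * (s⁻¹ * φ m)⁻¹ = s by group] at h3
  · obtain ⟨f, hf, hk⟩ := h.dichR e
    let ι : Fin 6 ↪ Fin 8 := Fin.castLEEmb (by omega)
    have fx : ∀ (σ : Perm (Fin 6)) (x : Fin 8), x = 6 ∨ x = 7 → Perm.viaEmbeddingHom ι σ x = x :=
      fun σ x hx => Perm.viaEmbedding_apply_of_notMem σ ι x (by
        rcases hx with rfl | rfl <;> decide +kernel)
    let j : Perm (Fin 6) →* centralizer ({ψ t0} : Set G) :=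
      (φ.comp (Perm.viaEmbeddingHom ι)).codRestrict _ fun σ => by
        rw [mem_centralizer_singleton_iff, ← p3, MonoidHom.comp_apply, ← map_mul, ← map_mul,
          mul_swap_eq_swap_mul, fx σ 6 (Or.inl rfl), fx σ 7 (Or.inr rfl)]
    have hj : Function.Injective (f.comp j) := (injective_iff_map_eq_one _).2 fun σ hσ => by
      rcases (hk _).1 hσ with c | c
      · exact Perm.viaEmbeddingHom_injective ι (inj (c.trans (by rw [map_one, map_one])))
      · have h1 : Perm.viaEmbeddingHom ι σ = swap 6 7 := inj (c.trans p3.symm)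
        have h2 := fx σ 6 (Or.inl rfl)
        rw [h1] at h2
        exact absurd h2 (by decide +kernel)
    obtain ⟨σ, hσ⟩ := Finite.surjective_of_injective hj (f ⟨g, mem_centralizer_singleton_iff.2 hg⟩)
    have h1 : f ((j σ)⁻¹ * ⟨g, mem_centralizer_singleton_iff.2 hg⟩) = 1 := by
      rw [map_mul, map_inv, ← hσ]; exact inv_mul_cancel _
    have h2 : ((j σ : G))⁻¹ * g ∈ φ.range := by
      rcases (hk _).1 h1 with c | c
      · exact (show ((j σ : G))⁻¹ * g = 1 from c) ▸ one_mem _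
      · exact ⟨_, p3.trans c.symm⟩
    have h3 := mul_mem (show (j σ : G) ∈ φ.range from ⟨_, rfl⟩) h2
    rwa [mul_inv_cancel_left] at h3

end Cfsg.Agent.S8R
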