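import Cfsg.Agent.S8R.A

/-! A configuration lemma in `Sym(6)`. -/

set_option autoImplicit false
set_option synthInstance.maxSize 8192
set_option synthInstance.maxHeartbeats 200000

namespace Cfsg.Agent.S8R

open Equiv

/-- table of a map -/
def qdT (a b c d e f : Fin 6) (i : Fin 6) : Fin 6 :=
  if i = 0 then a else if i = 1 then b else if i = 2 then c else if i = 3 then d else if i = 4 then e else f

theorem qd_bij {a b c d e f : Fin 6} (h1 : a ≠ b) (h2 : a ≠ c ∧ b ≠ c) (h3 : a ≠ d ∧ b ≠ d ∧ c ≠ d)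
    (h4 : a ≠ e ∧ b ≠ e ∧ c ≠ e ∧ d ≠ e) (h5 : a ≠ f ∧ b ≠ f ∧ c ≠ f ∧ d ≠ f ∧ e ≠ f) :
    Function.Bijective (qdT a b c d e f) := Finite.injective_iff_bijective.1 fun i j => by
  fin_cases i <;> fin_cases j <;> simp [qdT] <;> tauto

theorem qd_all {P : Perm (Fin 6) → Prop} : (∀ a b h1 c h2 d h3 e h4 f h5,
    P (Equiv.ofBijective _ (@qd_bij a b c d e f h1 h2 h3 h4 h5))) ↔ ∀ q, P q := ⟨fun h q => by
  have n : ∀ i j, i ≠ j → q i ≠ q j := fun i j => q.injective.ne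
  convert h (q 0) (q 1) (n _ _ (by decide)) (q 2) ⟨n _ _ (by decide), n _ _ (by decide)⟩ (q 3)
    ⟨n _ _ (by decide), n _ _ (by decide), n _ _ (by decide)⟩ (q 4)
    ⟨n _ _ (by decide), n _ _ (by decide), n _ _ (by decide), n _ _ (by decide)⟩ (q 5)
    ⟨n _ _ (by decide), n _ _ (by decide), n _ _ (by decide), n _ _ (by decide), n _ _ (by decide)⟩ using 1
  exact Equiv.ext fun i => by fin_cases i <;> rfl, fun h _ _ _ _ _ _ _ _ _ _ _ => h _⟩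

/-- fast enumeration of `Sym(6)` -/
@[instance_reducible] noncomputable def qdDec (P : Perm (Fin 6) → Prop) [DecidablePred P] : Decidable (∀ q, P q) := decidable_of_iff _ qd_all

attribute [local instance 2000] qdDec

/-- the conclusion -/
def QdC (z q s : Perm (Fin 6)) : Prop := ∃ e, e ^ 3 = 1 ∧ e * q = q * e ∧ e * z ≠ z * e ∧ (e * z⁻¹) ^ 2 = 1 ∧
    (∀ e', e' * q = q * e' → e' ^ 3 = 1 → e' ≠ z → (e' * z⁻¹) ^ 2 = 1 →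
      e' = e ∨ e' = z * e * z⁻¹ ∨ e' = z * z * e * (z * z)⁻¹) ∧
    (s * q * s⁻¹ * (e * z⁻¹)) ^ 2 ≠ 1 ∧ (s * q * s⁻¹ * (e * z⁻¹)) ^ 4 = 1 ∧
    (∃ c, c * (q * s) * c⁻¹ = s * q * s⁻¹ * (e * z⁻¹) * q) ∧
    ∃ d, d * (q * (s * q * s⁻¹ * (e * z⁻¹)) ^ 2) * d⁻¹ ≠ 1 ∧
      d * (q * (s * q * s⁻¹ * (e * z⁻¹)) ^ 2) * d⁻¹ * (z * (s * z * s⁻¹)) =
        z * (s * z * s⁻¹) * (d * (q * (s * q * s⁻¹ * (e * z⁻¹)) ^ 2) * d⁻¹)

theorem QdC.of (f : Perm (Fin 6) ≃* Perm (Fin 6)) {z q s : Perm (Fin 6)} (h : QdC (f z) (f q) (f s)) : QdC z q s := by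
  obtain ⟨e, h1, h2, h3, h4, h5, h6, h7, ⟨c, h8⟩, d, h9, h10⟩ := h
  obtain ⟨e, rfl⟩ := f.surjective e
  obtain ⟨c, rfl⟩ := f.surjective c
  obtain ⟨d, rfl⟩ := f.surjective d
  refine ⟨e, ?_, ?_, ?_, ?_, fun e' => ?_, ?_, ?_, ⟨c, ?_⟩, d, ?_, ?_⟩
  rotate_left 4
  · have := h5 (f e')
    simpa only [← map_mul, ← map_inv, ← map_pow, f.apply_eq_iff_eq, map_eq_one_iff f f.injective, ne_eq] using this
  all_goals
    simp only [← map_mul, ← map_inv, ← map_pow, f.apply_eq_iff_eq, map_eq_one_iff f f.injective, ne_eq] at *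
    assumption

def qdz : Perm (Fin 6) := ⟨qdT 1 2 0 3 4 5, qdT 2 0 1 3 4 5, by decide, by decide⟩
def qda : Perm (Fin 6) := ⟨qdT 0 1 2 4 5 3, qdT 0 1 2 5 3 4, by decide, by decide⟩
def qdb : Perm (Fin 6) := ⟨qdT 0 1 2 3 5 4, qdT 0 1 2 3 5 4, by decide, by decide⟩
def qds : Perm (Fin 6) := ⟨qdT 3 4 5 0 1 2, qdT 3 4 5 0 1 2, by decide, by decide⟩

theorem qd_c1 : QdC qdz qdb qds := ⟨⟨qdT 0 3 1 2 4 5, qdT 0 2 3 1 4 5, by decide, by decide⟩, by decide +kernel,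
  by decide +kernel, by decide +kernel, by decide +kernel, by decide +kernel, by decide +kernel, by decide +kernel,
  ⟨⟨qdT 4 0 3 5 1 2, qdT 1 4 5 2 0 3, by decide, by decide⟩, by decide +kernel⟩,
  ⟨qdT 0 1 3 5 2 4, qdT 0 1 4 2 5 3, by decide, by decide⟩, by decide +kernel, by decide +kernel⟩

theorem qd_c2 : QdC (qdz * qda) qds qdb := ⟨⟨qdT 1 5 3 4 2 0, qdT 5 0 4 2 3 1, by decide, by decide⟩, by decide +kernel,
  by decide +kernel, by decide +kernel, by decide +kernel, by decide +kernel, by decide +kernel, by decide +kernel,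
  ⟨⟨qdT 0 1 4 3 2 5, qdT 0 1 4 3 2 5, by decide, by decide⟩, by decide +kernel⟩,
  ⟨qdT 3 0 1 4 2 5, qdT 1 2 4 0 3 5, by decide, by decide⟩, by decide +kernel, by decide +kernel⟩

theorem qd_w1 : ∀ s : Perm (Fin 6), s * s = 1 → qdz * (s * qdz * s) = s * qdz * s * qdz → s * qdz * s ≠ qdz →
    s * qdz * s ≠ qdz⁻¹ → ∀ q : Perm (Fin 6), q * qdz = qdz * q → q * q = 1 →
    q * (s * qdz * s) * q * (s * qdz * s) = 1 → ∃ (i j : Fin 3) (k : Fin 2),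
      qdz ^ i.1 * qda ^ j.1 * qdb ^ k.1 * qdz * (qdz ^ i.1 * qda ^ j.1 * qdb ^ k.1)⁻¹ = qdz ∧
      qdz ^ i.1 * qda ^ j.1 * qdb ^ k.1 * q * (qdz ^ i.1 * qda ^ j.1 * qdb ^ k.1)⁻¹ = qdb ∧
      qdz ^ i.1 * qda ^ j.1 * qdb ^ k.1 * s * (qdz ^ i.1 * qda ^ j.1 * qdb ^ k.1)⁻¹ = qds := by
  decide +kernel

theorem qd_w2 : ∀ s : Perm (Fin 6), s * s = 1 → qdz * qda * (s * (qdz * qda) * s) = s * (qdz * qda) * s * (qdz * qda) →
    s * (qdz * qda) * s ≠ qdz * qda → s * (qdz * qda) * s ≠ (qdz * qda)⁻¹ → ∀ q : Perm (Fin 6),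
    q * (qdz * qda) = qdz * qda * q → q * q = 1 →
    q * (s * (qdz * qda) * s) * q * (s * (qdz * qda) * s) = 1 → ∃ (i j : Fin 3) (k : Fin 2),
      qdz ^ i.1 * qda ^ j.1 * qds ^ k.1 * (qdz * qda) * (qdz ^ i.1 * qda ^ j.1 * qds ^ k.1)⁻¹ = qdz * qda ∧
      qdz ^ i.1 * qda ^ j.1 * qds ^ k.1 * q * (qdz ^ i.1 * qda ^ j.1 * qds ^ k.1)⁻¹ = qds ∧
      qdz ^ i.1 * qda ^ j.1 * qds ^ k.1 * s * (qdz ^ i.1 * qda ^ j.1 * qds ^ k.1)⁻¹ = qdb := by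
  decide +kernel

theorem qd_cl {z : Perm (Fin 6)} (z3 : z ^ 3 = 1) (z1 : z ≠ 1) : IsConj z qdz ∨ IsConj z (qdz * qda) := by
  have := Fact.mk Nat.prime_three
  have o := orderOf_eq_prime z3 z1
  obtain ⟨n, e⟩ := Perm.cycleType_prime_order (σ := z) (o ▸ Nat.prime_three)
  have := Perm.sum_cycleType_le z
  rw [e, o, Multiset.sum_replicate, Fintype.card_fin, smul_eq_mul] at this
  rw [o] at e
  simp only [Perm.isConj_iff_cycleType_eq, e]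
  obtain rfl | rfl : n = 0 ∨ n = 1 := by omega
  exacts [.inl (by decide +kernel), .inr (by decide +kernel)]

theorem s6 {z y q s : Perm (Fin 6)} (z3 : z^3 = 1) (z1 : z ≠ 1) (ss : s*s = 1) (sz : s*z*s⁻¹ = y) (zy : z*y = y*z)
    (n1 : y ≠ z) (n2 : y ≠ z⁻¹) (qq : q*q = 1) (qz : q*z = z*q) (qy : q*y*q⁻¹ = y⁻¹) :
    ∃ e, e^3 = 1 ∧ e*q = q*e ∧ e*z ≠ z*e ∧ (e*z⁻¹)^2 = 1 ∧
    (∀ e', e'^3 = 1 → e'*q = q*e' → e' ≠ z → (e'*z⁻¹)^2 = 1 → e' = e ∨ e' = z*e*z⁻¹ ∨ e' = z*z*e*(z*z)⁻¹) ∧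
    (s*q*s⁻¹*(e*z⁻¹))^2 ≠ 1 ∧ (s*q*s⁻¹*(e*z⁻¹))^4 = 1 ∧ (∃ c, c*(q*s)*c⁻¹ = s*q*s⁻¹*(e*z⁻¹)*q) ∧
    ∃ d, d*(q*(s*q*s⁻¹*(e*z⁻¹))^2)*d⁻¹ ≠ 1 ∧
      d*(q*(s*q*s⁻¹*(e*z⁻¹))^2)*d⁻¹*(z*y) = z*y*(d*(q*(s*q*s⁻¹*(e*z⁻¹))^2)*d⁻¹) := by
  subst sz
  suffices h : QdC z q s by
    obtain ⟨e, h1, h2, h3, h4, h5, h⟩ := h
    exact ⟨e, h1, h2, h3, h4, fun e' a b => h5 e' b a, h⟩
  rw [inv_eq_of_mul_eq_one_right ss] at zy n1 n2 qy
  rw [inv_eq_of_mul_eq_one_right qq, eq_inv_iff_mul_eq_one] at qy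
  have k : ∀ f : Perm (Fin 6) ≃* Perm (Fin 6), f s * f s = 1 ∧ f z * (f s * f z * f s) = f s * f z * f s * f z ∧
      f s * f z * f s ≠ f z ∧ f s * f z * f s ≠ (f z)⁻¹ ∧ f q * f z = f z * f q ∧ f q * f q = 1 ∧
      f q * (f s * f z * f s) * f q * (f s * f z * f s) = 1 := fun f => by
    simp only [← map_mul, ← map_inv, f.apply_eq_iff_eq, map_eq_one_iff f f.injective, ne_eq]
    exact ⟨ss, zy, n1, n2, qz, qq, qy⟩
  rcases qd_cl z3 z1 with c | c <;> obtain ⟨g, e⟩ := isConj_iff.1 c <;> refine .of (MulAut.conj g) ?_ <;>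
    obtain ⟨a1, a2, a3, a4, a5, a6, a7⟩ := k (MulAut.conj g) <;> rw [show MulAut.conj g z = _ from e] at *
  · obtain ⟨i, j, k, b1, b2, b3⟩ := qd_w1 _ a1 a2 a3 a4 _ a5 a6 a7
    refine .of (MulAut.conj (qdz ^ i.1 * qda ^ j.1 * qdb ^ k.1)) ?_
    rw [MulAut.conj_apply, MulAut.conj_apply _ (MulAut.conj g q), MulAut.conj_apply _ (MulAut.conj g s), b1, b2, b3]
    exact qd_c1
  · obtain ⟨i, j, k, b1, b2, b3⟩ := qd_w2 _ a1 a2 a3 a4 _ a5 a6 a7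
    refine .of (MulAut.conj (qdz ^ i.1 * qda ^ j.1 * qds ^ k.1)) ?_
    rw [MulAut.conj_apply, MulAut.conj_apply _ (MulAut.conj g q), MulAut.conj_apply _ (MulAut.conj g s), b1, b2, b3]
    exact qd_c2

end Cfsg.Agent.S8R
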